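import Mathlib.RingTheory.PicardGroup
import Mathlib.RingTheory.LocalProperties.FinitePresentation
import Mathlib.RingTheory.LocalProperties.Submodule
import Mathlib.Algebra.Module.FinitePresentation

/-!
# Locally free rank one modules are invertible
-/

universe u

open scoped TensorProduct

namespace Groth.Agent.InvMod

variable {R : Type u} [CommRing R] {M : Type u} [AddCommGroup M] [Module R M]

theorem invertible_of_locally_free (s : Set R) (hs : Ideal.span s = ⊤)
    (hfree : ∀ f ∈ s, Nonempty (LocalizedModule.Away f M ≃ₗ[Localization.Away f] Localization.Away f)) :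
    Module.Invertible R M := by
  have θ : ∀ g : s, Nonempty (LocalizedModule.Away g.1 M ≃ₗ[Localization.Away g.1] Localization.Away g.1) :=
    fun g => hfree g g.2
  let L : ∀ g : s, M →ₗ[R] LocalizedModule.Away g.1 M := fun g =>
    LocalizedModule.mkLinearMap (Submonoid.powers g.1) M
  have : Module.FinitePresentation R M := Module.FinitePresentation.of_localizationSpan s hs fun g =>
    Module.finitePresentation_of_free_of_surjective (θ g).some.symm.toLinearMap (θ g).some.symm.surjective
      (by rw [LinearMap.ker_eq_bot.2 (θ g).some.symm.injective]; exact Submodule.fg_bot)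
  have swap : ∀ (f : M →ₗ[R] R) (x y : M), f x • y = f y • x := fun f x y =>
    Module.eq_of_isLocalized_span s hs (fun g => LocalizedModule.Away g.1 M) L _ _ fun g => by
      let θ' := (θ g).some
      let f' : LocalizedModule.Away g.1 M →ₗ[Localization.Away g.1] Localization.Away g.1 :=
        IsLocalizedModule.mapExtendScalars (Submonoid.powers g.1) (L g)
          (Algebra.linearMap R (Localization.Away g.1)) (Localization.Away g.1) f
      have hf' : ∀ z, f' (L g z) = algebraMap R _ (f z) := fun z =>
        IsLocalizedModule.map_apply (Submonoid.powers g.1) (L g) (Algebra.linearMap R (Localization.Away g.1)) f z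
      rw [map_smul, map_smul, ← IsScalarTower.algebraMap_smul (Localization.Away g.1) (f x) (L g y),
        ← IsScalarTower.algebraMap_smul (Localization.Away g.1) (f y) (L g x), ← hf', ← hf']
      refine θ'.injective ?_
      rw [map_smul, map_smul]
      have key : ∀ z, f' z = θ' z * f' (θ'.symm 1) := fun z => by
        conv_lhs => rw [← θ'.symm_apply_apply z, ← mul_one (θ' z), ← smul_eq_mul, map_smul, map_smul]
        rw [smul_eq_mul]
      rw [key (L g x), key (L g y), smul_eq_mul, smul_eq_mul]
      ring
  have hsurj : LinearMap.range (contractLeft R M) = ⊤ := by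
    by_contra hne
    obtain ⟨m, hm, hle⟩ := Ideal.exists_le_maximal _ hne
    obtain ⟨g, hgs, hgm⟩ := Set.not_subset.1 (fun h => hm.ne_top (top_unique (hs ▸ Ideal.span_le.2 h)))
    let θ' := (θ ⟨g, hgs⟩).some
    obtain ⟨φ, ⟨_, k, rfl⟩, hφ⟩ := Module.FinitePresentation.exists_lift_of_isLocalizedModule
      (Submonoid.powers g) (Algebra.linearMap R (Localization.Away g))
      (θ'.toLinearMap.restrictScalars R ∘ₗ L ⟨g, hgs⟩)
    obtain ⟨⟨x, _, j, rfl⟩, hx⟩ := IsLocalizedModule.surj (Submonoid.powers g) (L ⟨g, hgs⟩) (θ'.symm 1)
    simp only [Submonoid.smul_def] at hx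
    have h1 : algebraMap R (Localization.Away g) (φ x) = algebraMap R _ (g ^ k * g ^ j) := by
      refine (LinearMap.congr_fun hφ x).trans ?_
      show g ^ k • θ' (L ⟨g, hgs⟩ x) = _
      rw [← hx, ← IsScalarTower.algebraMap_smul (Localization.Away g) (g ^ j) (θ'.symm 1), map_smul,
        LinearEquiv.apply_symm_apply, smul_eq_mul, mul_one, Algebra.smul_def, map_mul]
    obtain ⟨⟨_, l, rfl⟩, hl⟩ := (IsLocalization.eq_iff_exists (Submonoid.powers g) (Localization.Away g)).1 h1
    have h2 : φ x ∈ m := hle ⟨φ ⊗ₜ x, contractLeft_apply φ x⟩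
    have h3 : g ^ l * (g ^ k * g ^ j) ∈ m := hl ▸ m.mul_mem_left _ h2
    rcases hm.isPrime.mem_or_mem h3 with h | h
    · exact hgm (hm.isPrime.mem_of_pow_mem _ h)
    · rcases hm.isPrime.mem_or_mem h with h | h <;> exact hgm (hm.isPrime.mem_of_pow_mem _ h)
  obtain ⟨T, hT⟩ := LinearMap.range_eq_top.1 hsurj 1
  have hcomm : ∀ t t' : Module.Dual R M ⊗[R] M, contractLeft R M t • t' = contractLeft R M t' • t := by
    intro t t'
    induction t using TensorProduct.induction_on with
    | zero => simp
    | tmul f x =>
      induction t' using TensorProduct.induction_on with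
      | zero => simp
      | tmul g y =>
        rw [contractLeft_apply, contractLeft_apply]
        calc f x • (g ⊗ₜ[R] y) = g ⊗ₜ (f x • y) := (TensorProduct.tmul_smul ..).symm
          _ = g ⊗ₜ (f y • x) := by rw [swap]
          _ = (f y • g) ⊗ₜ x := (TensorProduct.smul_tmul ..).symm
          _ = (g y • f) ⊗ₜ x := by
            congr 1
            refine LinearMap.ext fun z => ?_
            simp only [LinearMap.smul_apply]
            have := congrArg f (swap g y z)
            simp only [map_smul, smul_eq_mul] at this ⊢
            rw [mul_comm]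
            exact this.symm
          _ = g y • (f ⊗ₜ x) := (TensorProduct.smul_tmul' ..).symm
      | add a b ha hb => rw [smul_add, map_add, add_smul, ha, hb]
    | add a b ha hb => rw [map_add, add_smul, smul_add, ha, hb]
  refine ⟨⟨fun a b h => ?_, fun r => ⟨r • T, by rw [map_smul, hT, smul_eq_mul, mul_one]⟩⟩⟩
  have ha := hcomm a T
  have hb := hcomm b T
  rw [hT, one_smul] at ha hb
  rw [← ha, ← hb, h]

end Groth.Agent.InvMod
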