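import Mathlib.RingTheory.PicardGroup
import Mathlib.LinearAlgebra.PiTensorProduct.Basic
import Mathlib.LinearAlgebra.Matrix.Determinant.Basic
import Mathlib.Tactic.Module
import Mathlib.Tactic.Abel

/-!
# Invertible modules: rank-one identities, determinants and splittings
-/

universe u v w

open scoped TensorProduct

namespace Groth.Agent.InvMod

variable {R : Type u} [CommRing R] {N : Type v} [AddCommGroup N] [Module R N] [Module.Invertible R N]

lemma smul_swap (f : N →ₗ[R] R) (x y : N) : f x • y = f y • x := by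
  simpa using congrArg ((TensorProduct.lid R N).toLinearMap ∘ₗ f.rTensor N)
    (Module.Invertible.tmul_comm (R := R) (m₁ := x) (m₂ := y))

lemma exists_apply_notMem {m : Ideal R} (hm : m ≠ ⊤) : ∃ (f : N →ₗ[R] R) (x : N), f x ∉ m := by
  by_contra h
  simp only [not_exists, not_not] at h
  have : ∀ t : Module.Dual R N ⊗[R] N, Module.Invertible.linearEquiv R N t ∈ m := fun t => by
    induction t using TensorProduct.induction_on with
    | zero => simp
    | tmul f x => simpa [Module.Invertible.linearEquiv] using h f x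
    | add a b ha hb => rw [map_add]; exact m.add_mem ha hb
  exact hm ((Ideal.eq_top_iff_one m).2 (by
    simpa using this ((Module.Invertible.linearEquiv R N).symm 1)))

variable {M : Type w} [AddCommGroup M] [Module R M] [Module.Invertible R M]

/-- A unimodular functional on a sum of two invertible modules splits off their tensor product. -/
theorem nonempty_prodEquiv (φ : N × M →ₗ[R] R) (v : N × M) (hv : φ v = 1) :
    Nonempty ((N × M) ≃ₗ[R] R × (N ⊗[R] M)) := by
  obtain ⟨s, t⟩ := v
  let φ₁ : N →ₗ[R] R := φ ∘ₗ LinearMap.inl R N M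
  let φ₂ : M →ₗ[R] R := φ ∘ₗ LinearMap.inr R N M
  have hφ : ∀ a b, φ (a, b) = φ₁ a + φ₂ b := fun a b => by
    show φ (a, b) = φ (a, 0) + φ (0, b)
    rw [← map_add]; simp
  have h1 : φ₁ s + φ₂ t = 1 := by rw [← hφ, hv]
  let j : N ⊗[R] M →ₗ[R] N × M :=
    LinearMap.prod (TensorProduct.rid R N ∘ₗ φ₂.lTensor N) (-(TensorProduct.lid R M ∘ₗ φ₁.rTensor M))
  have hj : ∀ x y, j (x ⊗ₜ y) = (φ₂ y • x, -(φ₁ x • y)) := fun x y => by simp [j]
  let q : N × M →ₗ[R] N ⊗[R] M :=
    LinearMap.coprod ((TensorProduct.mk R N M).flip t) (-(TensorProduct.mk R N M s))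
  have hq : ∀ a b, q (a, b) = a ⊗ₜ t - s ⊗ₜ b := fun a b => by simp [q, sub_eq_add_neg]
  have hφj : ∀ z, φ (j z) = 0 := fun z => by
    induction z using TensorProduct.induction_on with
    | zero => simp
    | tmul x y => rw [hj, hφ]; simp [mul_comm]
    | add a b ha hb => simp [ha, hb]
  have hqj : ∀ z, q (j z) = z := fun z => by
    induction z using TensorProduct.induction_on with
    | zero => simp
    | tmul x y =>
      have e1 : (φ₂ y • x) ⊗ₜ[R] t = φ₂ t • (x ⊗ₜ[R] y) := by
        rw [TensorProduct.smul_tmul, smul_swap φ₂ y t, TensorProduct.tmul_smul]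
      have e2 : s ⊗ₜ[R] (φ₁ x • y) = φ₁ s • (x ⊗ₜ[R] y) := by
        rw [← TensorProduct.smul_tmul, smul_swap φ₁ x s, TensorProduct.smul_tmul']
      rw [hj, hq, TensorProduct.tmul_neg, sub_neg_eq_add, e1, e2, ← add_smul, add_comm, h1, one_smul]
    | add a b ha hb => rw [map_add, map_add, ha, hb]
  have hqv : q (s, t) = 0 := by rw [hq, sub_self]
  have hjq : ∀ p, j (q p) = p - φ p • (s, t) := by
    rintro ⟨a, b⟩
    rw [hq, map_sub, hj, hj, hφ]
    ext
    · show φ₂ t • a - φ₂ b • s = a - (φ₁ a + φ₂ b) • s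
      linear_combination (norm := module) h1 • a + smul_swap φ₁ a s
    · show -(φ₁ a • t) - -(φ₁ s • b) = b - (φ₁ a + φ₂ b) • t
      linear_combination (norm := module) h1 • b + smul_swap φ₂ b t
  exact ⟨{
    toFun := fun p => (φ p, q p)
    invFun := fun z => z.1 • (s, t) + j z.2
    map_add' := fun p p' => by simp
    map_smul' := fun r p => by simp
    left_inv := fun p => by simp [hjq]
    right_inv := fun z => by
      ext
      · simp only [map_add, map_smul, hv, hφj]; simp
      · simp only [map_add, map_smul, hqv, hqj]; simp }⟩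

variable (R N) in
lemma invertible_piTensor : ∀ n : ℕ, ∃ _ : Module.Invertible R (⨂[R] _ : Fin n, N),
    CommRing.Pic.mk R (⨂[R] _ : Fin n, N) = CommRing.Pic.mk R N ^ n := by
  intro n
  induction n with
  | zero =>
    let e : (⨂[R] _ : Fin 0, N) ≃ₗ[R] R := PiTensorProduct.isEmptyEquiv (Fin 0)
    have : Module.Invertible R (⨂[R] _ : Fin 0, N) := .congr e.symm
    exact ⟨this, by rw [pow_zero, CommRing.Pic.mk_eq_one_iff]; exact ⟨e⟩⟩
  | succ n ih =>
    obtain ⟨hi, he⟩ := ih
    let e : ((⨂[R] _ : Fin n, N) ⊗[R] N) ≃ₗ[R] (⨂[R] _ : Fin (n + 1), N) :=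
      ((TensorProduct.congr (LinearEquiv.refl R _)
        (PiTensorProduct.subsingletonEquiv (R := R) (s := fun _ : Fin 1 => N) 0).symm).trans
        (PiTensorProduct.tmulEquiv R N)).trans (PiTensorProduct.reindex R (fun _ => N) finSumFinEquiv)
    have : Module.Invertible R (⨂[R] _ : Fin (n + 1), N) := .congr e
    refine ⟨this, ?_⟩
    rw [pow_succ, ← he, ← CommRing.Pic.mk_tensor, CommRing.Pic.mk_eq_mk_iff]
    exact ⟨e.symm⟩

/-- An isomorphism `Nⁿ ≅ Rⁿ` kills the `n`-th power of the class of `N`. -/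
theorem pow_eq_one_of_pi_equiv {n : ℕ} (e : (Fin n → N) ≃ₗ[R] (Fin n → R)) :
    CommRing.Pic.mk R N ^ n = 1 := by
  obtain ⟨_, hn⟩ := invertible_piTensor R N n
  let D : MultilinearMap R (fun _ : Fin n => N) R :=
    (Matrix.detRowAlternating (n := Fin n) (R := R)).toMultilinearMap.compLinearMap
      (fun j => e.toLinearMap ∘ₗ LinearMap.single R (fun _ => N) j)
  let Φ := PiTensorProduct.lift D
  have hs : Function.Surjective Φ := by
    refine LinearMap.range_eq_top.1 (by_contra fun h => ?_)
    obtain ⟨m, hm, hle⟩ := Ideal.exists_le_maximal _ h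
    obtain ⟨f, x₀, hfx⟩ := exists_apply_notMem (N := N) hm.ne_top
    let A : Matrix (Fin n) (Fin n) R := Matrix.of fun j => e (Pi.single j x₀)
    let B : Matrix (Fin n) (Fin n) R := Matrix.of fun i j => f (e.symm (Pi.single i 1) j)
    have hBA : B * A = Matrix.diagonal fun _ => f x₀ := by
      ext i k
      have h1 : ∑ j, B i j • e (Pi.single j x₀) = f x₀ • Pi.single i 1 := by
        calc ∑ j, B i j • e (Pi.single j x₀)
            = e (∑ j, Pi.single j (f x₀ • e.symm (Pi.single i 1) j)) := by
              rw [map_sum]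
              refine Finset.sum_congr rfl fun j _ => ?_
              rw [← map_smul, ← Pi.single_smul]
              exact congrArg (fun z => e (Pi.single j z)) (smul_swap f _ _)
          _ = e (f x₀ • e.symm (Pi.single i 1)) :=
              congrArg e (Finset.univ_sum_single (f x₀ • e.symm (Pi.single i 1)))
          _ = _ := by rw [map_smul, LinearEquiv.apply_symm_apply]
      have h2 := congrFun h1 k
      simpa [Matrix.mul_apply, A, Matrix.diagonal_apply, Pi.single_apply, eq_comm] using h2
    have hA : A.det ∈ m := hle ⟨PiTensorProduct.tprod R fun _ => x₀, by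
      show Φ _ = _
      rw [PiTensorProduct.lift.tprod]; rfl⟩
    have hd := congrArg Matrix.det hBA
    rw [Matrix.det_mul, Matrix.det_diagonal, Finset.prod_const] at hd
    exact hfx (hm.isPrime.mem_of_pow_mem _ (hd ▸ m.mul_mem_left _ hA))
  rw [← hn, CommRing.Pic.mk_eq_one_iff]
  exact ⟨LinearEquiv.ofBijective Φ (Module.Invertible.bijective_of_surjective hs)⟩

end Groth.Agent.InvMod
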