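import Groth.Agent.InvMod.Basic
import Mathlib.LinearAlgebra.Matrix.ToLin
import Mathlib.LinearAlgebra.Contraction
import Mathlib.LinearAlgebra.Matrix.GeneralLinearGroup.Defs

/-!
# Automorphisms of matrix algebras over a commutative ring
-/

universe u v

open scoped TensorProduct
open Matrix

namespace Groth.Agent.InvMod

variable {R : Type u} [CommRing R] {n : ℕ}

/-- The algebra automorphism of `Mₙ(R)` attached to an isomorphism `Nⁿ ≅ Rⁿ`. -/
noncomputable def autOfEquiv {N : Type v} [AddCommGroup N] [Module R N] [Module.Invertible R N]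
    (e : (Fin n → N) ≃ₗ[R] (Fin n → R)) :
    Matrix (Fin n) (Fin n) R ≃ₐ[R] Matrix (Fin n) (Fin n) R :=
  ((((AlgEquiv.ofBijective (Algebra.ofId R (Module.End R N))
    (Module.Invertible.toModuleEnd_bijective R N)).mapMatrix (m := Fin n)).trans
    (endVecAlgEquivMatrixEnd (Fin n) (R := R) (A := R) (M := N)).symm).trans
    (e.conjAlgEquiv R)).trans (algEquivMatrix' (R := R) (n := Fin n))

lemma autOfEquiv_mulVec {N : Type v} [AddCommGroup N] [Module R N] [Module.Invertible R N]
    (e : (Fin n → N) ≃ₗ[R] (Fin n → R)) (A : Matrix (Fin n) (Fin n) R) (v : Fin n → N) :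
    autOfEquiv e A *ᵥ e v = e (fun i => ∑ j, A i j • v j) := by
  have h1 : Matrix.toLin' (autOfEquiv e A) =
      e.conjAlgEquiv R ((endVecAlgEquivMatrixEnd (Fin n) (R := R) (A := R) (M := N)).symm
        (((AlgEquiv.ofBijective (Algebra.ofId R (Module.End R N))
          (Module.Invertible.toModuleEnd_bijective R N)).mapMatrix (m := Fin n)) A)) := by
    simp only [autOfEquiv, AlgEquiv.trans_apply, algEquivMatrix']
    apply LinearMap.toMatrix'.injective; simp [LinearMap.toMatrixAlgEquiv']
  rw [← Matrix.toLin'_apply, h1, LinearEquiv.conjAlgEquiv_apply]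
  simp only [LinearMap.coe_comp, LinearEquiv.coe_coe, Function.comp_apply, LinearEquiv.symm_apply_apply]
  congr 1

theorem free_of_inner [NeZero n] {N : Type v} [AddCommGroup N] [Module R N] [Module.Invertible R N]
    (e : (Fin n → N) ≃ₗ[R] (Fin n → R)) (P : GL (Fin n) R)
    (hP : ∀ A : Matrix (Fin n) (Fin n) R, autOfEquiv e A = P.1 * A * (P⁻¹).1) : Module.Free R N := by
  let L : (Fin n → R) ≃ₗ[R] (Fin n → R) :=
    { Matrix.toLin' (P⁻¹).1 with
      invFun := Matrix.toLin' P.1
      left_inv := fun v => by simp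
      right_inv := fun v => by simp }
  let f : (Fin n → N) ≃ₗ[R] (Fin n → R) := e.trans L
  have hf : ∀ (A : Matrix (Fin n) (Fin n) R) v, f (fun i => ∑ j, A i j • v j) = A *ᵥ f v := fun A v => by
    show (P⁻¹).1 *ᵥ e _ = A *ᵥ ((P⁻¹).1 *ᵥ e v)
    rw [← autOfEquiv_mulVec, hP, Matrix.mulVec_mulVec, Matrix.mulVec_mulVec]
    simp [← mul_assoc]
  let E : Matrix (Fin n) (Fin n) R := Matrix.single 0 0 1
  have hE : ∀ w : Fin n → R, E *ᵥ w = Pi.single 0 (w 0) := fun w => by
    rw [Matrix.single_mulVec, one_mul]; rfl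
  have hEN : ∀ v : Fin n → N, (fun i => ∑ j, E i j • v j) = Pi.single 0 (v 0) := fun v => by
    funext i
    rcases eq_or_ne i 0 with rfl | h
    · rw [Finset.sum_eq_single 0 (fun j _ hj => by simp [E, Matrix.single_apply, Ne.symm hj]) (by simp)]
      simp [E]
    · simp [E, Matrix.single_apply, h, Ne.symm h]
  have h0 : ∀ v, f (Pi.single 0 (v 0)) = Pi.single 0 (f v 0) := fun v => by rw [← hEN, hf, hE]
  refine Module.Invertible.free_iff_linearEquiv.2 ⟨{
    toFun := fun x => f (Pi.single 0 x) 0
    invFun := fun r => f.symm (Pi.single 0 r) 0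
    map_add' := fun x y => by simp [Pi.single_add]
    map_smul' := fun r x => by simp [Pi.single_smul]
    left_inv := fun x => ?_
    right_inv := fun r => ?_ }⟩
  · have := h0 (Pi.single 0 x)
    simp only [Pi.single_eq_same] at this
    simp only [← this, LinearEquiv.symm_apply_apply, Pi.single_eq_same]
  · show f (Pi.single 0 (f.symm (Pi.single 0 r) 0)) 0 = r
    rw [h0, LinearEquiv.apply_symm_apply, Pi.single_eq_same, Pi.single_eq_same]

section

variable [NeZero n] (φ : Matrix (Fin n) (Fin n) R ≃ₐ[R] Matrix (Fin n) (Fin n) R)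

local notation "u" => fun i j => φ (Matrix.single i j (1 : R))

lemma unit_mul (i j k : Fin n) : u i j * u j k = u i k := by
  simp [← map_mul]

lemma unit_mul_of_ne (i : Fin n) {j k : Fin n} (h : j ≠ k) (l : Fin n) : u i j * u k l = 0 := by
  simp [← map_mul, Matrix.single_mul_single_of_ne, h]

lemma sum_unit : ∑ i, u i i = 1 := by
  rw [← map_sum, ← map_one φ]
  congr 1
  exact Matrix.sum_single_one

/-- The line cut out by the image of `e₀₀`. -/
def line : Submodule R (Fin n → R) := LinearMap.range (Matrix.toLin' (φ (Matrix.single 0 0 1)))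

lemma mem_line {w : Fin n → R} (hw : w ∈ line φ) : u 0 0 *ᵥ w = w := by
  obtain ⟨a, rfl⟩ := hw
  rw [Matrix.toLin'_apply, Matrix.mulVec_mulVec]
  exact congrArg (· *ᵥ a) (unit_mul φ 0 0 0)

/-- Projection to the line. -/
def proj : (Fin n → R) →ₗ[R] line φ :=
  (Matrix.toLin' (φ (Matrix.single 0 0 1))).rangeRestrict

lemma proj_apply (w : Fin n → R) : (proj φ w : Fin n → R) = u 0 0 *ᵥ w := rfl

lemma proj_line (x : line φ) : proj φ x = x := Subtype.ext (mem_line φ x.2)

/-- `Nⁿ ≅ Rⁿ` for the line `N`. -/
noncomputable def lineEquiv : (Fin n → line φ) ≃ₗ[R] (Fin n → R) where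
  toFun v := ∑ i, u i 0 *ᵥ (v i : Fin n → R)
  map_add' v w := by simp [Matrix.mulVec_add, Finset.sum_add_distrib]
  map_smul' r v := by simp [Matrix.mulVec_smul, Finset.smul_sum]
  invFun w i := proj φ (u 0 i *ᵥ w)
  left_inv v := by
    funext i
    refine Subtype.ext ?_
    simp only [proj_apply, Matrix.mulVec_sum, Matrix.mulVec_mulVec]
    rw [Finset.sum_eq_single i]
    · rw [unit_mul, unit_mul]; exact mem_line φ (v i).2
    · intro j _ hj
      rw [unit_mul_of_ne φ 0 (Ne.symm hj) 0, mul_zero, Matrix.zero_mulVec]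
    · simp
  right_inv w := by
    simp only [proj_apply, Matrix.mulVec_mulVec, unit_mul, ← Matrix.sum_mulVec]
    rw [sum_unit, Matrix.one_mulVec]

lemma end_line_bijective :
    Function.Bijective (Algebra.ofId R (Module.End R (line φ))) := by
  constructor
  · intro r r' h
    have h1 : r • u 0 0 = r' • u 0 0 := by
      refine Matrix.toLin'.injective (LinearMap.ext fun a => ?_)
      have h2 := congrArg Subtype.val (LinearMap.congr_fun h (proj φ a))
      simpa [Matrix.smul_mulVec, proj_apply] using h2
    rw [← map_smul, ← map_smul] at h1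
    simpa using congrFun (congrFun (φ.injective h1) 0) 0
  · intro g
    let G : Matrix (Fin n) (Fin n) R := LinearMap.toMatrix' ((line φ).subtype ∘ₗ g ∘ₗ proj φ)
    have hG : ∀ a, G *ᵥ a = (g (proj φ a) : Fin n → R) := fun a => by
      rw [← Matrix.toLin'_apply]; simp [G]
    have hP : u 0 0 * G * u 0 0 = G := by
      refine Matrix.toLin'.injective (LinearMap.ext fun a => ?_)
      simp only [Matrix.toLin'_apply, ← Matrix.mulVec_mulVec, hG]
      rw [mem_line φ (g _).2, show u 0 0 *ᵥ a = (proj φ a : Fin n → R) from rfl, proj_line]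
    refine ⟨φ.symm G 0 0, LinearMap.ext fun x => Subtype.ext ?_⟩
    have hc : G = φ.symm G 0 0 • u 0 0 := by
      conv_lhs => rw [← hP, show G = φ (φ.symm G) by simp, ← map_mul, ← map_mul]
      rw [← map_smul]
      congr 1
      ext i j
      simp [Matrix.single_mul_mul_single, Matrix.single_apply, Matrix.smul_apply]
    show φ.symm G 0 0 • (x : Fin n → R) = (g x : Fin n → R)
    have := hG x
    rw [proj_line] at this
    rw [← this]
    conv_rhs => rw [hc]
    rw [Matrix.smul_mulVec, mem_line φ x.2]

lemma invertible_line : Module.Invertible R (line φ) := by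
  let σ := AlgEquiv.ofBijective (Algebra.ofId R (Module.End R (line φ))) (end_line_bijective φ)
  let D := dualTensorHom R (line φ) (line φ)
  let f : Fin n → Module.Dual R (line φ) := fun k => LinearMap.proj k ∘ₗ (line φ).subtype
  let y : Fin n → line φ := fun k => proj φ (Pi.single k 1)
  have hxy : ∀ x, ∑ k, f k x • y k = x := fun x => by
    conv_rhs => rw [← proj_line φ x, pi_eq_sum_univ' (x : Fin n → R), map_sum]
    exact Finset.sum_congr rfl fun k _ => (map_smul _ _ _).symm
  let T := ∑ k, f k ⊗ₜ[R] y k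
  have hT : D T = 1 := LinearMap.ext fun x => by simp [D, T, LinearMap.sum_apply, hxy]
  let c : Module.Dual R (line φ) ⊗[R] line φ →ₗ[R] R := σ.symm.toLinearMap ∘ₗ D
  have hcT : c T = 1 := by simp [c, hT]
  have key : ∀ t, c t • T = t := fun t => by
    induction t using TensorProduct.induction_on with
    | zero => simp
    | tmul g z =>
      have hg : ∀ x, g x • z = c (g ⊗ₜ z) • x := fun x => by
        have h1 : σ (c (g ⊗ₜ z)) = D (g ⊗ₜ z) := σ.apply_symm_apply _
        exact ((LinearMap.congr_fun h1 x).trans (dualTensorHom_apply g x z)).symm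
      have hgs : g = ∑ k, g (y k) • f k := LinearMap.ext fun x => by
        conv_lhs => rw [← hxy x]
        simp [mul_comm]
      conv_rhs => rw [hgs, TensorProduct.sum_tmul]
      rw [Finset.smul_sum]
      refine Finset.sum_congr rfl fun k _ => ?_
      rw [TensorProduct.smul_tmul, hg (y k), TensorProduct.tmul_smul]
    | add a b ha hb => rw [map_add, add_smul, ha, hb]
  have hb : Function.Bijective c := ⟨fun a b h => by rw [← key a, ← key b, h],
    fun r => ⟨r • T, by rw [map_smul, hcT, smul_eq_mul, mul_one]⟩⟩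
  exact Module.Invertible.right (LinearEquiv.ofBijective c hb)

theorem inner_of_free (hfree : Nonempty (R ≃ₗ[R] line φ)) :
    ∃ P : GL (Fin n) R, ∀ A : Matrix (Fin n) (Fin n) R, φ A = P.1 * A * (P⁻¹).1 := by
  obtain ⟨g⟩ := hfree
  let L : (Fin n → R) ≃ₗ[R] (Fin n → R) :=
    (LinearEquiv.piCongrRight fun _ : Fin n => g).trans (lineEquiv φ)
  let P : GL (Fin n) R := Matrix.GeneralLinearGroup.toLin.symm
    (LinearMap.GeneralLinearGroup.ofLinearEquiv L)
  refine ⟨P, fun A => ?_⟩
  have key : ∀ B : Matrix (Fin n) (Fin n) R, φ B * P.1 = P.1 * B := by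
    have hP : ∀ w, P.1 *ᵥ w = L w := fun w => by
      rw [← Matrix.toLin'_apply]
      exact congrFun (congrArg DFunLike.coe (congrArg Units.val
        (Matrix.GeneralLinearGroup.toLin.apply_symm_apply (LinearMap.GeneralLinearGroup.ofLinearEquiv L)))) w
    intro B
    induction B using Matrix.induction_on with
    | h_add p q hp hq => rw [map_add, add_mul, mul_add, hp, hq]
    | h_std_basis i j x =>
      have hx : Matrix.single i j x = x • Matrix.single i j (1 : R) := by
        rw [Matrix.smul_single, smul_eq_mul, mul_one]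
      rw [hx, map_smul, smul_mul_assoc, mul_smul_comm]
      congr 1
      refine Matrix.toLin'.injective (LinearMap.ext fun w => ?_)
      simp only [Matrix.toLin'_apply, ← Matrix.mulVec_mulVec, hP]
      have hL : ∀ w : Fin n → R, L w = ∑ k, u k 0 *ᵥ (g (w k) : Fin n → R) := fun w => rfl
      simp only [hL, Matrix.mulVec_sum, Matrix.mulVec_mulVec, Matrix.single_mulVec, one_mul]
      rw [Finset.sum_eq_single j, Finset.sum_eq_single i]
      · rw [unit_mul]; simp
      · intro k _ hk; simp [Function.update_of_ne hk]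
      · simp
      · intro k _ hk; rw [unit_mul_of_ne φ i (Ne.symm hk) 0, Matrix.zero_mulVec]
      · simp
  rw [← key, mul_assoc]
  simp

end

end Groth.Agent.InvMod
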