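import Mathlib.RingTheory.PicardGroup
import Mathlib.RingTheory.Idempotents
import Mathlib.RingTheory.Nakayama
import Mathlib.LinearAlgebra.Matrix.ToLin
import Mathlib.RingTheory.TensorProduct.Basic
import Mathlib.RingTheory.Finiteness.Projective

/-!
# The Picard group and nilpotent thickenings
-/

universe u v

open scoped TensorProduct

namespace Groth.Agent.InvMod

variable {R A : Type u} [CommRing R] [CommRing A] [Algebra R A]

lemma one_tmul_surjective (hf : Function.Surjective (algebraMap R A)) (X : Type v) [AddCommGroup X]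
    [Module R X] (z : A ⊗[R] X) : ∃ x : X, (1 : A) ⊗ₜ[R] x = z :=
  TensorProduct.mk_surjective R X A hf z

lemma le_jacobson_of_isNilpotent {I : Ideal R} (hI : IsNilpotent I) : I ≤ Ideal.jacobson ⊥ := by
  obtain ⟨k, hk⟩ := hI
  intro x hx
  refine Ideal.radical_le_jacobson ⟨k, ?_⟩
  have := Ideal.pow_mem_pow hx k
  rwa [hk] at this

/-- A finite projective module which becomes free of rank one modulo a nilpotent ideal is free of
rank one. -/
theorem nonempty_equiv_self (hf : Function.Surjective (algebraMap R A))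
    (hI : IsNilpotent (RingHom.ker (algebraMap R A))) (X : Type v) [AddCommGroup X] [Module R X]
    [Module.Finite R X] [Module.Projective R X] (θ : (A ⊗[R] X) ≃ₗ[A] A) : Nonempty (X ≃ₗ[R] R) := by
  obtain ⟨x₀, hx₀⟩ := one_tmul_surjective hf X (θ.symm 1)
  let g : R →ₗ[R] X := LinearMap.toSpanSingleton R X x₀
  have hker : ∀ x : X, ∃ r : R, (1 : A) ⊗ₜ[R] x = (1 : A) ⊗ₜ (g r) := by
    intro x
    obtain ⟨r, hr⟩ := hf (θ ((1 : A) ⊗ₜ[R] x))
    refine ⟨r, θ.injective ?_⟩
    show θ _ = θ ((1 : A) ⊗ₜ[R] (r • x₀))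
    rw [TensorProduct.tmul_smul, hx₀, ← hr, ← IsScalarTower.algebraMap_smul A r (θ.symm 1), map_smul,
      LinearEquiv.apply_symm_apply, smul_eq_mul, mul_one]
  have hsurj : Function.Surjective g := by
    refine LinearMap.range_eq_top.1 (top_unique ?_)
    refine Submodule.le_of_le_smul_of_le_jacobson_bot (I := RingHom.ker (algebraMap R A))
      Module.Finite.fg_top (le_jacobson_of_isNilpotent hI) ?_
    intro x _
    obtain ⟨r, hr⟩ := hker x
    refine Submodule.mem_sup.2 ⟨g r, LinearMap.mem_range_self g r, x - g r, ?_, by abel⟩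
    have h0 : (1 : A) ⊗ₜ[R] (x - g r) = 0 := by rw [TensorProduct.tmul_sub, hr, sub_self]
    have hψ : (Ideal.Quotient.mk (RingHom.ker (algebraMap R A)) 1 ⊗ₜ[R] (x - g r) :
        (R ⧸ RingHom.ker (algebraMap R A)) ⊗[R] X) = 0 := by
      let φ : (R ⧸ RingHom.ker (algebraMap R A)) →ₗ[R] A :=
        Submodule.liftQ _ (Algebra.linearMap R A) le_rfl
      have hφ : Function.Bijective φ :=
        ⟨LinearMap.ker_eq_bot.1 (Submodule.ker_liftQ_eq_bot _ _ _ le_rfl),
          fun a => let ⟨r, hr⟩ := hf a; ⟨Submodule.Quotient.mk r, hr⟩⟩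
      refine ((LinearEquiv.ofBijective φ hφ).rTensor X).injective ?_
      rw [LinearEquiv.rTensor_tmul, map_zero]
      refine Eq.trans ?_ h0
      exact congrArg (· ⊗ₜ[R] (x - g r)) (show φ (Ideal.Quotient.mk _ 1) = 1 from map_one (algebraMap R A))
    have h2 := congrArg (TensorProduct.quotTensorEquivQuotSMul X (RingHom.ker (algebraMap R A))) hψ
    rw [map_zero, TensorProduct.quotTensorEquivQuotSMul_mk_tmul, one_smul] at h2
    exact (Submodule.Quotient.mk_eq_zero _).1 h2
  obtain ⟨s, hs⟩ := Module.projective_lifting_property g LinearMap.id hsurj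
  have hgs : ∀ x, g (s x) = x := fun x => LinearMap.congr_fun hs x
  have he : IsIdempotentElem (1 - s x₀) := by
    refine (IsIdempotentElem.one_sub ?_)
    have h2 : s (s x₀ • x₀) = s x₀ := congrArg s (hgs x₀)
    rw [map_smul, smul_eq_mul] at h2
    exact h2
  have hnil : IsNilpotent (1 - s x₀) := by
    have h1 : (1 - s x₀) • x₀ = 0 := by
      rw [sub_smul, one_smul, show s x₀ • x₀ = x₀ from hgs x₀, sub_self]
    have h2 := congrArg (fun z => θ ((1 : A) ⊗ₜ[R] z)) h1
    simp only [TensorProduct.tmul_smul, hx₀, TensorProduct.tmul_zero, map_zero] at h2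
    rw [← IsScalarTower.algebraMap_smul A (1 - s x₀) (θ.symm 1), map_smul, LinearEquiv.apply_symm_apply,
      smul_eq_mul, mul_one] at h2
    obtain ⟨k, hk⟩ := hI
    have := Ideal.pow_mem_pow (RingHom.mem_ker.2 h2) k
    rw [hk] at this
    exact ⟨k, this⟩
  have h1 : s x₀ = 1 := (sub_eq_zero.1 (he.eq_zero_of_isNilpotent hnil)).symm
  refine ⟨(LinearEquiv.ofBijective g ⟨fun a b h => ?_, hsurj⟩).symm⟩
  simpa [g, h1] using congrArg s h

/-- A finite projective module lifts along a nilpotent thickening. -/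
theorem exists_lift (hf : Function.Surjective (algebraMap R A))
    (hI : IsNilpotent (RingHom.ker (algebraMap R A))) (N : Type u) [AddCommGroup N] [Module A N]
    [Module.Finite A N] [Module.Projective A N] :
    ∃ (P : Type u) (_ : AddCommGroup P) (_ : Module R P), Module.Finite R P ∧ Module.Projective R P ∧
      Nonempty ((A ⊗[R] P) ≃ₗ[A] N) := by
  classical
  obtain ⟨n, π, s, hπ, hs, hπs⟩ := Module.Finite.exists_comp_eq_id_of_projective A N
  let E : Matrix (Fin n) (Fin n) A := LinearMap.toMatrix' (s ∘ₗ π)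
  have hEv : ∀ v, E.mulVec v = s (π v) := fun v => by
    rw [← Matrix.toLin'_apply]; simp [E]
  have hE : IsIdempotentElem E := by
    refine Matrix.toLin'.injective (LinearMap.ext fun v => ?_)
    simp only [Matrix.toLin'_apply, ← Matrix.mulVec_mulVec, hEv]
    rw [show π (s (π v)) = π v from LinearMap.congr_fun hπs (π v)]
  obtain ⟨k, hk⟩ := hI
  have hnil : ∀ x ∈ RingHom.ker ((algebraMap R A).mapMatrix (m := Fin n)), IsNilpotent x := by
    intro x hx
    have hx0 : x.map (algebraMap R A) = 0 := by simpa [RingHom.mem_ker] using hx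
    have key : ∀ j, ∀ a b, (x ^ j) a b ∈ RingHom.ker (algebraMap R A) ^ j := by
      intro j
      induction j with
      | zero => simp
      | succ j ih =>
        intro a b
        rw [pow_succ x, pow_succ (RingHom.ker (algebraMap R A)), Matrix.mul_apply]
        exact Ideal.sum_mem _ fun c _ => Ideal.mul_mem_mul (ih a c)
          (RingHom.mem_ker.2 (congrFun (congrFun hx0 c) b))
    refine ⟨k, Matrix.ext fun a b => ?_⟩
    simpa [hk] using key k a b
  have hmem : E ∈ ((algebraMap R A).mapMatrix (m := Fin n)).range :=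
    ⟨E.map (Function.surjInv hf), Matrix.ext fun a b => Function.surjInv_eq hf _⟩
  obtain ⟨E', hE', hEE'⟩ := exists_isIdempotentElem_eq_of_ker_isNilpotent
    ((algebraMap R A).mapMatrix (m := Fin n)) hnil E hmem hE
  let p : (Fin n → R) →ₗ[R] LinearMap.range (Matrix.toLin' E') := (Matrix.toLin' E').rangeRestrict
  have hp : ∀ x : LinearMap.range (Matrix.toLin' E'), p x = x := by
    rintro ⟨_, v, rfl⟩
    refine Subtype.ext ?_
    show E'.mulVec (E'.mulVec v) = E'.mulVec v
    rw [Matrix.mulVec_mulVec, hE'.eq]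
  have : Module.Projective R (LinearMap.range (Matrix.toLin' E')) :=
    Module.Projective.of_split (LinearMap.range (Matrix.toLin' E')).subtype p (LinearMap.ext hp)
  refine ⟨LinearMap.range (Matrix.toLin' E'), inferInstance, inferInstance,
    Module.Finite.of_surjective p (LinearMap.surjective_rangeRestrict _), inferInstance, ⟨?_⟩⟩
  let c : (Fin n → R) →+ (Fin n → A) := (algebraMap R A).toAddMonoidHom.compLeft (Fin n)
  let Φ : (A ⊗[R] LinearMap.range (Matrix.toLin' E')) →ₗ[A] N :=
    π ∘ₗ (TensorProduct.piScalarRight R A A (Fin n)).toLinearMap ∘ₗ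
      (LinearMap.range (Matrix.toLin' E')).subtype.baseChange A
  have hΦ : ∀ x : LinearMap.range (Matrix.toLin' E'), Φ (1 ⊗ₜ x) = π (c x) := by
    intro x
    show π _ = π _
    congr 1
    ext i
    simp [c, Algebra.smul_def]
  let Ψ : N →ₗ[A] A ⊗[R] LinearMap.range (Matrix.toLin' E') :=
    ∑ i, (LinearMap.proj i ∘ₗ s).smulRight (1 ⊗ₜ p (Pi.single i 1))
  have hc : ∀ v, c (E'.mulVec v) = E.mulVec (c v) := by
    intro v
    funext i
    rw [← hEE']
    exact RingHom.map_mulVec (algebraMap R A) E' v i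
  have hΨ : ∀ v : Fin n → R, ∀ m : N, s m = c v →
      Ψ m = 1 ⊗ₜ[R] p v := by
    intro v m hm
    conv_rhs => rw [pi_eq_sum_univ' v, map_sum, TensorProduct.tmul_sum]
    simp only [Ψ, LinearMap.sum_apply, LinearMap.smulRight_apply, LinearMap.comp_apply, LinearMap.proj_apply, hm]
    refine Finset.sum_congr rfl fun i _ => ?_
    rw [map_smul, TensorProduct.tmul_smul]
    exact IsScalarTower.algebraMap_smul A (v i) ((1 : A) ⊗ₜ[R] p (Pi.single i 1))
  refine LinearEquiv.ofBijective Φ ⟨Function.LeftInverse.injective (g := Ψ) fun z => ?_, fun m => ?_⟩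
  · obtain ⟨x, rfl⟩ := one_tmul_surjective hf _ z
    have hx : E'.mulVec (x : Fin n → R) = x := congrArg Subtype.val (hp x)
    rw [hΦ, hΨ (E'.mulVec x) _ (by rw [hc, hEv])]
    rw [hx, hp]
  · obtain ⟨v, hv⟩ : ∃ v, c v = s m :=
      ⟨fun i => Function.surjInv hf (s m i), funext fun i => Function.surjInv_eq hf _⟩
    refine ⟨1 ⊗ₜ p v, ?_⟩
    rw [hΦ, show ((p v : LinearMap.range (Matrix.toLin' E')) : Fin n → R) = E'.mulVec v from rfl, hc, hv, hEv,
      show π (s m) = m from LinearMap.congr_fun hπs m]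
    exact LinearMap.congr_fun hπs m

theorem mapAlgebra_bijective (hf : Function.Surjective (algebraMap R A))
    (hI : IsNilpotent (RingHom.ker (algebraMap R A))) :
    Function.Bijective (CommRing.Pic.mapAlgebra R A) := by
  refine ⟨(injective_iff_map_eq_one _).2 fun M hM => ?_, fun N => ?_⟩
  · obtain ⟨θ⟩ := CommRing.Pic.mk_eq_one_iff.1 hM
    obtain ⟨e⟩ := nonempty_equiv_self hf hI M θ
    rw [← CommRing.Pic.mk_eq_self (M := M)]
    exact CommRing.Pic.mk_eq_one_iff.2 ⟨e⟩
  · obtain ⟨P, _, _, _, _, ⟨eP⟩⟩ := exists_lift hf hI N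
    obtain ⟨Q, _, _, _, _, ⟨eQ⟩⟩ := exists_lift hf hI (Module.Dual A N)
    let θ : (A ⊗[R] (Q ⊗[R] P)) ≃ₗ[A] A :=
      (TensorProduct.AlgebraTensorModule.distribBaseChange R A Q P).trans
        ((TensorProduct.congr eQ eP).trans (Module.Invertible.linearEquiv A N))
    obtain ⟨e⟩ := nonempty_equiv_self hf hI (Q ⊗[R] P) θ
    have := Module.Invertible.right e
    refine ⟨CommRing.Pic.mk R P, ?_⟩
    rw [CommRing.Pic.mapAlgebra_apply, ← CommRing.Pic.mk_eq_self (M := N), CommRing.Pic.mk_eq_mk_iff]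
    exact ⟨(TensorProduct.AlgebraTensorModule.congr (LinearEquiv.refl A A) (CommRing.Pic.mk.linearEquiv R P)).trans eP⟩

end Groth.Agent.InvMod
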