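import Groth.Agent.InvMod.Basic
import Groth.Agent.BassCancel.Basic
import Mathlib.RingTheory.DedekindDomain.Basic
import Mathlib.RingTheory.LocalRing.Module

/-!
# Steinitz over one-dimensional Noetherian rings
-/

universe u v

open scoped TensorProduct

namespace Groth.Agent.InvMod

variable {R : Type u} [CommRing R]

lemma rankAtStalk_eq_one (N : Type v) [AddCommGroup N] [Module R N] [Module.Invertible R N]
    (p : PrimeSpectrum R) : Module.rankAtStalk (R := R) N p = 1 := by
  have : Module.Free (Localization.AtPrime p.asIdeal) (LocalizedModule p.asIdeal.primeCompl N) :=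
    inferInstance
  exact Module.Invertible.finrank_eq_one _ _

variable [IsNoetherianRing R]

/-- `N ⊕ M ≅ R ⊕ (N ⊗ M)` in dimension at most one. -/
theorem nonempty_prod_of_dim_le_one (hdim : ringKrullDim R ≤ (1 : ℕ)) (N M : Type u)
    [AddCommGroup N] [Module R N] [Module.Invertible R N]
    [AddCommGroup M] [Module R M] [Module.Invertible R M] :
    Nonempty ((N × M) ≃ₗ[R] R × (N ⊗[R] M)) := by
  obtain ⟨v, φ, hv⟩ := Groth.Agent.BassCancel.exists_unimodular (R := R) (P := N × M) (n := 2) hdim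
    (by omega) (fun p => by
      rw [Module.rankAtStalk_prod, Pi.add_apply, rankAtStalk_eq_one, rankAtStalk_eq_one])
  exact nonempty_prodEquiv φ v hv

/-- `Nᵏ⁺¹ ≅ Rᵏ ⊕ N^{⊗(k+1)}` in dimension at most one. -/
theorem nonempty_pi_of_dim_le_one (hdim : ringKrullDim R ≤ (1 : ℕ)) (M : CommRing.Pic R) :
    ∀ k : ℕ, Nonempty ((Fin (k + 1) → M) ≃ₗ[R] (Fin k → R) × (M ^ (k + 1) : CommRing.Pic R)) := by
  intro k
  induction k with
  | zero =>
    have h : M ^ (0 + 1) = M := pow_one M
    rw [h]
    exact ⟨(LinearEquiv.funUnique (Fin 1) R M).trans LinearEquiv.uniqueProd.symm⟩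
  | succ k ih =>
    obtain ⟨e⟩ := ih
    let M' : CommRing.Pic R := M ^ (k + 1)
    obtain ⟨g⟩ := nonempty_prod_of_dim_le_one hdim M M'
    have hmul : CommRing.Pic.mk R (M ⊗[R] M') = M ^ (k + 1 + 1) := by
      rw [← CommRing.Pic.mul_eq_tensor, ← pow_succ']
    obtain ⟨h⟩ := CommRing.Pic.mk_eq_iff.1 hmul
    let a : (Fin (k + 1 + 1) → M) ≃ₗ[R] M × (Fin (k + 1) → M) :=
      { toFun := fun v => (v 0, Fin.tail v)
        invFun := fun p => Fin.cons p.1 p.2
        map_add' := fun p q => rfl
        map_smul' := fun r p => rfl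
        left_inv := fun v => by simp
        right_inv := fun p => by simp }
    let b : (M × ((Fin k → R) × M')) ≃ₗ[R] (Fin k → R) × (M × M') :=
      ((LinearEquiv.prodAssoc R _ _ _).symm.trans
        ((LinearEquiv.prodComm R _ _).prodCongr (LinearEquiv.refl R _))).trans (LinearEquiv.prodAssoc R _ _ _)
    let c : ((Fin k → R) × (R × (M ⊗[R] M'))) ≃ₗ[R]
        (Fin (k + 1) → R) × (M ^ (k + 1 + 1) : CommRing.Pic R) :=
      (LinearEquiv.prodAssoc R _ _ _).symm.trans
        (((LinearEquiv.prodComm R (Fin k → R) R).trans (Groth.Agent.BassCancel.prodPiEquiv k)).prodCongr h)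
    exact ⟨(((a.trans ((LinearEquiv.refl R _).prodCongr e)).trans b).trans
      ((LinearEquiv.refl R _).prodCongr g)).trans c⟩

end Groth.Agent.InvMod
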